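import Cfsg.Agent.H691.AN.Defs
import Cfsg.Agent.H34.PerfThree
import Cfsg.Agent.H704.Enum

/-!
# S4766, piece B10: groups with the character degrees of `A_n`, `n < 20`: the derived subgroup is perfect (helper245)

The numerical criterion.
-/

set_option autoImplicit false

namespace Cfsg.Agent.H245.AN

open Cfsg Cfsg.Agent.H691.AN Cfsg.Agent.H704 Cfsg.Agent.H681 Cfsg.Agent.H681.DegBasic

universe u

/-- membership in a list of numbers -/
def memB (x : ℕ) : List ℕ → Bool
  | [] => false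
  | a :: l => Nat.beq x a || memB x l

theorem memB_iff {x : ℕ} {l : List ℕ} : memB x l = true ↔ x ∈ l := by
  induction l with
  | nil => simp [memB]
  | cons a l ih => rw [memB, Bool.or_eq_true, ih, List.mem_cons, Nat.beq_eq]

/-- no `f * (d / t)`, `t ∣ gcd d f`, is in the list -/
def badB (LD : List ℕ) (d f : ℕ) : Bool :=
  LD.all fun e => !(Nat.beq (Nat.mod (f * d) e) 0) || !(Nat.beq (Nat.mod (Nat.gcd d f) (Nat.div (f * d) e)) 0)

theorem bad_of {LD : List ℕ} {d f : ℕ} (h : badB LD d f = true) (hf : 0 < f) {e : ℕ} (he : e ∣ d)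
    (hef : d / e ∣ f) : f * e ∉ LD := by
  intro hm
  have h1 := (List.all_eq_true.1 h) _ hm
  rw [Bool.or_eq_true, Bool.not_eq_true', Bool.not_eq_true', ← Bool.not_eq_true, ← Bool.not_eq_true, Nat.beq_eq,
    Nat.beq_eq] at h1
  have h2 : Nat.mod (f * d) (f * e) = 0 := Nat.mod_eq_zero_of_dvd (Nat.mul_dvd_mul_left f he)
  have h3 : Nat.div (f * d) (f * e) = d / e := Nat.mul_div_mul_left d e hf
  have h4 : Nat.mod (Nat.gcd d f) (d / e) = 0 :=
    Nat.mod_eq_zero_of_dvd (Nat.dvd_gcd (Nat.div_dvd_of_dvd he) hef)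
  rw [h3] at h1
  rcases h1 with h1 | h1
  · exact h1 h2
  · exact h1 h4

/-- `q * p ^ k ∤ dd` for the least `k` with `f < q * p ^ k` -/
def npB (f dd p : ℕ) : ℕ → ℕ → Bool
  | 0, _ => false
  | k + 1, q => if Nat.ble q f then npB f dd p k (q * p) else !(Nat.beq (Nat.mod dd q) 0)

theorem np_of {f dd p : ℕ} : ∀ (k q : ℕ), npB f dd p k q = true → ∀ m : ℕ, f < q * p ^ m → ¬ q * p ^ m ∣ dd := by
  intro k
  induction k with
  | zero => intro q h; simp [npB] at h
  | succ k ih =>
    intro q h m hm hd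
    rw [npB] at h
    by_cases hq : Nat.ble q f = true
    · rw [if_pos hq] at h
      have hq' : q ≤ f := Nat.le_of_ble_eq_true hq
      cases m with
      | zero => rw [pow_zero, mul_one] at hm; omega
      | succ m =>
        have e : q * p ^ (m + 1) = q * p * p ^ m := by ring
        rw [e] at hm hd
        exact ih _ h m hm hd
    · rw [if_neg hq, Bool.not_eq_true', ← Bool.not_eq_true, Nat.beq_eq] at h
      exact h (Nat.mod_eq_zero_of_dvd ((Dvd.intro _ rfl).trans hd))

/-- the check -/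
def chkB (LD P W : List ℕ) (C : List (ℕ × List ℕ)) : Bool :=
  C.all fun c => Nat.blt 1 c.1 && Nat.blt c.1 (2 ^ 40) && !c.2.isEmpty && c.2.all (fun d => memB d W && badB LD d c.1) &&
    P.all (fun p => (Nat.beq (Nat.mod c.1 p) 0 || c.2.any (fun d => npB c.1 (d * d) p 41 1)) &&
      (!(Nat.beq (Nat.mod (p ^ 40) c.1) 0) || c.2.any (fun d => !(Nat.beq (Nat.mod d p) 0))))

theorem core {n : ℕ} {P W : List ℕ} {C : List (ℕ × List ℕ)}
    (hchk : chkB (1 :: C.map (·.1)) P W C = true)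
    (hLD : ∀ d ∈ D n, d ∈ 1 :: C.map (·.1)) (hW : ∀ w ∈ W, w ∈ D n) (hP : ∀ p : ℕ, p.Prime → p ≤ n → p ∈ P)
    {G : Type u} [Group G] [Finite G] (h : charDegrees G = D n) : ⁅commutator G, commutator G⁆ = commutator G := by
  classical
  have := Fintype.ofFinite G
  by_contra hcon
  obtain ⟨p, f, hp, hf1, hc⟩ := H34.Perf3.cases_of_not_perfect hcon
  -- primes
  have hpn : ∀ {x : ℕ}, x ∈ D n → p ∣ x → p ≤ n := by
    intro x hx hpx
    have h1 : x ∣ Nat.card (An n) := dvd_card hx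
    have h2 : Nat.card (An n) ∣ n.factorial := by
      have h3 := Subgroup.card_subgroup_dvd_card (alternatingGroup (Fin n))
      rwa [Nat.card_eq_fintype_card (α := Equiv.Perm (Fin n)), Fintype.card_perm, Fintype.card_fin] at h3
    exact (hp.dvd_factorial).1 ((hpx.trans h1).trans h2)
  -- the certificate for `f`
  have hcert : f ∈ D n → ∃ A : List ℕ, (∃ d, d ∈ A) ∧ f < 2 ^ 40 ∧
      (∀ d ∈ A, d ∈ D n ∧ badB (1 :: C.map (·.1)) d f = true) ∧
      (p ≤ n → (¬ p ∣ f → ∃ d ∈ A, ∀ m : ℕ, f < p ^ m → ¬ p ^ m ∣ d * d) ∧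
        (f ∣ p ^ 40 → ∃ d ∈ A, ¬ p ∣ d)) := by
    intro hf
    have h1 := hLD f hf
    rw [List.mem_cons, List.mem_map] at h1
    rcases h1 with h1 | ⟨c, hcC, rfl⟩
    · omega
    have h2 := (List.all_eq_true.1 hchk) c hcC
    simp only [Bool.and_eq_true] at h2
    obtain ⟨⟨⟨⟨-, h3⟩, h4⟩, h5⟩, h6⟩ := h2
    refine ⟨c.2, ?_, ?_, ?_, ?_⟩
    · rcases hA : c.2 with _ | ⟨a, l⟩
      · rw [hA] at h4
        simp at h4
      · exact ⟨a, by simp⟩
    · have := Nat.le_of_ble_eq_true (show Nat.ble (c.1 + 1) (2 ^ 40) = true from h3)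
      omega
    · intro d hd
      have h7 := (List.all_eq_true.1 h5) d hd
      rw [Bool.and_eq_true, memB_iff] at h7
      exact ⟨hW d h7.1, h7.2⟩
    · intro hpn
      have h7 := (List.all_eq_true.1 h6) p (hP p hp hpn)
      rw [Bool.and_eq_true, Bool.or_eq_true, Bool.or_eq_true] at h7
      obtain ⟨h8, h9⟩ := h7
      constructor
      · intro hpf
        rcases h8 with h8 | h8
        · rw [Nat.beq_eq] at h8
          exact absurd (Nat.dvd_of_mod_eq_zero h8) hpf
        · obtain ⟨d, hd, h10⟩ := List.any_eq_true.1 h8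
          refine ⟨d, hd, fun m hm => ?_⟩
          have h11 := np_of _ _ h10 m (by rwa [one_mul])
          rwa [one_mul] at h11
      · intro hfp
        rcases h9 with h9 | h9
        · rw [Bool.not_eq_true', ← Bool.not_eq_true, Nat.beq_eq] at h9
          exact absurd (Nat.mod_eq_zero_of_dvd hfp) h9
        · obtain ⟨d, hd, h10⟩ := List.any_eq_true.1 h9
          rw [Bool.not_eq_true', ← Bool.not_eq_true, Nat.beq_eq] at h10
          exact ⟨d, hd, fun h11 => h10 (Nat.mod_eq_zero_of_dvd h11)⟩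
  rw [h] at hc
  rcases hc with ⟨⟨b, hb⟩, hc⟩ | ⟨hfp, N, hN, hNf, m, hm, hfm, hc⟩
  · -- the `p`-group case
    have hfD : f ∈ D n := by
      rcases hc 1 one_mem with h1 | h1
      · exact absurd (Nat.dvd_one.1 h1) hp.one_lt.ne'
      · rwa [mul_one] at h1
    obtain ⟨A, -, hA2, hA3, hA4⟩ := hcert hfD
    have hb0 : b ≠ 0 := by
      rintro rfl
      rw [pow_zero] at hb
      omega
    have hpf : p ∣ f := by rw [hb]; exact dvd_pow_self p hb0
    have hb40 : b ≤ 40 := by
      by_contra hlt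
      have h1 : 2 ^ 40 ≤ p ^ b := (Nat.pow_le_pow_left hp.two_le 40).trans (Nat.pow_le_pow_right hp.pos (by omega))
      omega
    obtain ⟨d, hd, hpd⟩ := (hA4 (hpn hfD hpf)).2 (by rw [hb]; exact pow_dvd_pow p hb40)
    obtain ⟨hdD, hbad⟩ := hA3 d hd
    rcases hc d hdD with h1 | h1
    · exact hpd h1
    · have hd0 := pos_of_mem hdD
      exact bad_of hbad (by omega) dvd_rfl (by rw [Nat.div_self hd0]; exact one_dvd _) (hLD _ h1)
  · -- the Frobenius case
    have := Fintype.ofFinite N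
    have hcN : ∀ e ∈ charDegrees N, p ^ m ∣ e ^ 2 ∨ f * e ∈ D n := by
      intro e he
      obtain ⟨ψ, hψ, hψe⟩ := mem_charDegrees.1 he
      exact hc ψ hψ e hψe
    have hfD : f ∈ D n := by
      rcases hcN 1 one_mem with h1 | h1
      · rw [one_pow] at h1
        have := Nat.le_of_dvd one_pos h1
        omega
      · rwa [mul_one] at h1
    obtain ⟨A, hA1, -, hA3, hA4⟩ := hcert hfD
    -- each witness is divisible
    have key : ∀ d ∈ A, p ^ m ∣ d * d := by
      intro d hd
      obtain ⟨hdD, hbad⟩ := hA3 d hd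
      have hdG : d ∈ charDegrees G := by rw [h]; exact hdD
      obtain ⟨χ, hχ, hχd⟩ := mem_charDegrees.1 hdG
      obtain ⟨ψ, e, hψ, hψe, -, he1, he2⟩ := exists_constituent N hχ hχd
      rw [hNf] at he2
      have heN : e ∈ charDegrees N := mem_charDegrees.2 ⟨ψ, hψ, hψe⟩
      rcases hcN e heN with h1 | h1
      · rw [← sq]
        exact h1.trans (pow_dvd_pow_of_dvd he1 2)
      · exact absurd (hLD _ h1) (bad_of hbad (by omega) he1 he2)
    have hpf : ¬ p ∣ f := fun h1 => by
      have h2 := (Nat.Prime.coprime_iff_not_dvd hp).1 hfp.symm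
      exact h2 h1
    obtain ⟨d0, hd0⟩ := hA1
    have hpd : p ∣ d0 := by
      have h1 := (dvd_pow_self p hm.ne').trans (key d0 hd0)
      rcases (Nat.Prime.dvd_mul hp).1 h1 with h2 | h2 <;> exact h2
    obtain ⟨d, hd, h1⟩ := (hA4 (hpn (hA3 d0 hd0).1 hpd)).1 hpf
    exact h1 m hfm (key d hd)

/-! ### The degrees from the enumeration of partitions -/

/-- the check of a partition -/
def partChk (N : ℕ) (LD l : List ℕ) (H : ℕ) : Bool :=
  if Nat.beq (l.headD 0) l.length then
    (if transpose l = l then memB (Nat.div N (2 * H)) LD else memB (Nat.div N H) LD)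
  else memB (Nat.div N H) LD

/-- the hypothesis A2 -/
def HypTwo (n : ℕ) : Prop := ∀ d : ℕ, d ∈ D n → ∃ l : List ℕ, IsPart l n ∧
  ((transpose l ≠ l ∧ d * hookProd l = n.factorial) ∨ (transpose l = l ∧ 2 * d * hookProd l = n.factorial))

/-- the hypothesis A1 -/
def HypOne (n : ℕ) : Prop := ∀ l : List ℕ, IsPart l n → ∀ d : ℕ, d * hookProd l = n.factorial →
  (transpose l ≠ l → d ∈ D n) ∧ (transpose l = l → ∃ e : ℕ, d = 2 * e ∧ e ∈ D n)

theorem mem_of_chk {n N : ℕ} (hN : n.factorial = N) {LD : List ℕ} (hchk : go (partChk N LD) (n + 1) n 1 [] 1 = true)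
    (h2 : HypTwo n) : ∀ d ∈ D n, d ∈ LD := by
  intro d hd
  obtain ⟨l, hl, h3⟩ := h2 d hd
  have h4 := check_of_isPart hchk hl
  have hH : 0 < hookProd l := by
    apply Nat.pos_of_ne_zero
    intro h0
    rcases h3 with ⟨-, h3⟩ | ⟨-, h3⟩ <;> rw [h0, mul_zero] at h3 <;> exact absurd h3.symm (Nat.factorial_pos n).ne'
  rw [partChk] at h4
  rcases h3 with ⟨h5, h3⟩ | ⟨h5, h3⟩
  · rw [hN] at h3
    have h6 : Nat.div N (hookProd l) = d := by
      rw [← h3]; exact Nat.mul_div_cancel d hH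
    rw [if_neg h5, h6, ite_self, memB_iff] at h4
    exact h4
  · rw [hN] at h3
    have h6 : Nat.div N (2 * hookProd l) = d := by
      rw [← h3, show 2 * d * hookProd l = d * (2 * hookProd l) by ring]
      exact Nat.mul_div_cancel d (by omega)
    have h7 : Nat.beq (l.headD 0) l.length = true := by
      rw [Nat.beq_eq]
      have h8 := congrArg List.length h5
      rw [transpose, List.length_map, List.length_range] at h8
      exact h8
    rw [if_pos h7, if_pos h5, h6, memB_iff] at h4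
    exact h4

/-- the check of the witnesses -/
def witChk (n N : ℕ) (W : List (ℕ × List ℕ)) : Bool :=
  W.all fun w => decide (w.2.Pairwise (· ≥ ·)) && decide (∀ a ∈ w.2, 0 < a) && Nat.beq w.2.sum n &&
    (if transpose w.2 = w.2 then Nat.beq (2 * w.1 * hookProd w.2) N else Nat.beq (w.1 * hookProd w.2) N)

theorem wit_mem {n N : ℕ} (hN : n.factorial = N) {W : List (ℕ × List ℕ)} (hchk : witChk n N W = true) (h1 : HypOne n) :
    ∀ w ∈ W.map (·.1), w ∈ D n := by
  intro x hx
  rw [List.mem_map] at hx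
  obtain ⟨w, hw, rfl⟩ := hx
  have h2 := (List.all_eq_true.1 hchk) w hw
  rw [Bool.and_eq_true, Bool.and_eq_true, Bool.and_eq_true, decide_eq_true_eq, decide_eq_true_eq, Nat.beq_eq] at h2
  obtain ⟨⟨⟨h3, h4⟩, h5⟩, h6⟩ := h2
  by_cases h7 : transpose w.2 = w.2
  · rw [if_pos h7, Nat.beq_eq, ← hN] at h6
    obtain ⟨e, he, he2⟩ := (h1 w.2 ⟨h3, h4, h5⟩ _ h6).2 h7
    have : w.1 = e := by omega
    rw [this]
    exact he2
  · rw [if_neg h7, Nat.beq_eq, ← hN] at h6
    exact (h1 w.2 ⟨h3, h4, h5⟩ _ h6).1 h7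

/-- everything together -/
theorem core' {n N : ℕ} {P : List ℕ} {C W : List (ℕ × List ℕ)} (hN : n.factorial = N)
    (hgo : go (partChk N (1 :: C.map (·.1))) (n + 1) n 1 [] 1 = true) (hwit : witChk n N W = true)
    (hchk : chkB (1 :: C.map (·.1)) P (W.map (·.1)) C = true) (hP : ∀ p : ℕ, p.Prime → p ≤ n → p ∈ P)
    (h1 : HypOne n) (h2 : HypTwo n)
    {G : Type u} [Group G] [Finite G] (h : charDegrees G = D n) : ⁅commutator G, commutator G⁆ = commutator G :=
  core hchk (mem_of_chk hN hgo h2) (wit_mem hN hwit h1) hP h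

end Cfsg.Agent.H245.AN
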