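import Cfsg.Agent.H245.AN.Core
import Cfsg.Agent.H245.AN.Data

/-!
# S4766, piece B10: groups with the character degrees of `A_n`, `5 ≤ n < 20`: the derived subgroup is perfect (helper245)

`small` : from the hypotheses A1, A2 (`HypOne`, `HypTwo`). `mem_list`: the degrees of `A_n` lie in the list of the
certificate.
-/

set_option autoImplicit false

namespace Cfsg.Agent.H245.AN

open Cfsg Cfsg.Agent.H691.AN Cfsg.Agent.H704

universe u

theorem primes_le {p : ℕ} (hp : p.Prime) {n : ℕ} (hn : n < 20) (h : p ≤ n) : p ∈ [2, 3, 5, 7, 11, 13, 17, 19] := by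
  have : ∀ q ≤ 19, q.Prime → q ∈ [2, 3, 5, 7, 11, 13, 17, 19] := by decide
  exact this p (by omega) hp

theorem go5 : go (partChk 120 (1 :: cert5.map (·.1))) (5 + 1) 5 1 [] 1 = true := by decide +kernel
theorem witc5 : witChk 5 120 wit5 = true := by decide +kernel
theorem chk5 : chkB (1 :: cert5.map (·.1)) [2, 3, 5, 7, 11, 13, 17, 19] (wit5.map (·.1)) cert5 = true := by
  decide +kernel
theorem fac5 : Nat.factorial 5 = 120 := by decide +kernel

theorem go6 : go (partChk 720 (1 :: cert6.map (·.1))) (6 + 1) 6 1 [] 1 = true := by decide +kernel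
theorem witc6 : witChk 6 720 wit6 = true := by decide +kernel
theorem chk6 : chkB (1 :: cert6.map (·.1)) [2, 3, 5, 7, 11, 13, 17, 19] (wit6.map (·.1)) cert6 = true := by
  decide +kernel
theorem fac6 : Nat.factorial 6 = 720 := by decide +kernel

theorem go7 : go (partChk 5040 (1 :: cert7.map (·.1))) (7 + 1) 7 1 [] 1 = true := by decide +kernel
theorem witc7 : witChk 7 5040 wit7 = true := by decide +kernel
theorem chk7 : chkB (1 :: cert7.map (·.1)) [2, 3, 5, 7, 11, 13, 17, 19] (wit7.map (·.1)) cert7 = true := by
  decide +kernel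
theorem fac7 : Nat.factorial 7 = 5040 := by decide +kernel

theorem go8 : go (partChk 40320 (1 :: cert8.map (·.1))) (8 + 1) 8 1 [] 1 = true := by decide +kernel
theorem witc8 : witChk 8 40320 wit8 = true := by decide +kernel
theorem chk8 : chkB (1 :: cert8.map (·.1)) [2, 3, 5, 7, 11, 13, 17, 19] (wit8.map (·.1)) cert8 = true := by
  decide +kernel
theorem fac8 : Nat.factorial 8 = 40320 := by decide +kernel

theorem go9 : go (partChk 362880 (1 :: cert9.map (·.1))) (9 + 1) 9 1 [] 1 = true := by decide +kernel
theorem witc9 : witChk 9 362880 wit9 = true := by decide +kernel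
theorem chk9 : chkB (1 :: cert9.map (·.1)) [2, 3, 5, 7, 11, 13, 17, 19] (wit9.map (·.1)) cert9 = true := by
  decide +kernel
theorem fac9 : Nat.factorial 9 = 362880 := by decide +kernel

theorem go10 : go (partChk 3628800 (1 :: cert10.map (·.1))) (10 + 1) 10 1 [] 1 = true := by decide +kernel
theorem witc10 : witChk 10 3628800 wit10 = true := by decide +kernel
theorem chk10 : chkB (1 :: cert10.map (·.1)) [2, 3, 5, 7, 11, 13, 17, 19] (wit10.map (·.1)) cert10 = true := by
  decide +kernel
theorem fac10 : Nat.factorial 10 = 3628800 := by decide +kernel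

theorem go11 : go (partChk 39916800 (1 :: cert11.map (·.1))) (11 + 1) 11 1 [] 1 = true := by decide +kernel
theorem witc11 : witChk 11 39916800 wit11 = true := by decide +kernel
theorem chk11 : chkB (1 :: cert11.map (·.1)) [2, 3, 5, 7, 11, 13, 17, 19] (wit11.map (·.1)) cert11 = true := by
  decide +kernel
theorem fac11 : Nat.factorial 11 = 39916800 := by decide +kernel

theorem go12 : go (partChk 479001600 (1 :: cert12.map (·.1))) (12 + 1) 12 1 [] 1 = true := by decide +kernel
theorem witc12 : witChk 12 479001600 wit12 = true := by decide +kernel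
theorem chk12 : chkB (1 :: cert12.map (·.1)) [2, 3, 5, 7, 11, 13, 17, 19] (wit12.map (·.1)) cert12 = true := by
  decide +kernel
theorem fac12 : Nat.factorial 12 = 479001600 := by decide +kernel

theorem go13 : go (partChk 6227020800 (1 :: cert13.map (·.1))) (13 + 1) 13 1 [] 1 = true := by decide +kernel
theorem witc13 : witChk 13 6227020800 wit13 = true := by decide +kernel
theorem chk13 : chkB (1 :: cert13.map (·.1)) [2, 3, 5, 7, 11, 13, 17, 19] (wit13.map (·.1)) cert13 = true := by
  decide +kernel
theorem fac13 : Nat.factorial 13 = 6227020800 := by decide +kernel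

theorem go14 : go (partChk 87178291200 (1 :: cert14.map (·.1))) (14 + 1) 14 1 [] 1 = true := by decide +kernel
theorem witc14 : witChk 14 87178291200 wit14 = true := by decide +kernel
theorem chk14 : chkB (1 :: cert14.map (·.1)) [2, 3, 5, 7, 11, 13, 17, 19] (wit14.map (·.1)) cert14 = true := by
  decide +kernel
theorem fac14 : Nat.factorial 14 = 87178291200 := by decide +kernel

theorem go15 : go (partChk 1307674368000 (1 :: cert15.map (·.1))) (15 + 1) 15 1 [] 1 = true := by decide +kernel
theorem witc15 : witChk 15 1307674368000 wit15 = true := by decide +kernel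
theorem chk15 : chkB (1 :: cert15.map (·.1)) [2, 3, 5, 7, 11, 13, 17, 19] (wit15.map (·.1)) cert15 = true := by
  decide +kernel
theorem fac15 : Nat.factorial 15 = 1307674368000 := by decide +kernel

theorem go16 : go (partChk 20922789888000 (1 :: cert16.map (·.1))) (16 + 1) 16 1 [] 1 = true := by decide +kernel
theorem witc16 : witChk 16 20922789888000 wit16 = true := by decide +kernel
theorem chk16 : chkB (1 :: cert16.map (·.1)) [2, 3, 5, 7, 11, 13, 17, 19] (wit16.map (·.1)) cert16 = true := by
  decide +kernel
theorem fac16 : Nat.factorial 16 = 20922789888000 := by decide +kernel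

theorem go17 : go (partChk 355687428096000 (1 :: cert17.map (·.1))) (17 + 1) 17 1 [] 1 = true := by decide +kernel
theorem witc17 : witChk 17 355687428096000 wit17 = true := by decide +kernel
theorem chk17 : chkB (1 :: cert17.map (·.1)) [2, 3, 5, 7, 11, 13, 17, 19] (wit17.map (·.1)) cert17 = true := by
  decide +kernel
theorem fac17 : Nat.factorial 17 = 355687428096000 := by decide +kernel

theorem go18 : go (partChk 6402373705728000 (1 :: cert18.map (·.1))) (18 + 1) 18 1 [] 1 = true := by decide +kernel
theorem witc18 : witChk 18 6402373705728000 wit18 = true := by decide +kernel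
theorem chk18 : chkB (1 :: cert18.map (·.1)) [2, 3, 5, 7, 11, 13, 17, 19] (wit18.map (·.1)) cert18 = true := by
  decide +kernel
theorem fac18 : Nat.factorial 18 = 6402373705728000 := by decide +kernel

theorem go19 : go (partChk 121645100408832000 (1 :: cert19.map (·.1))) (19 + 1) 19 1 [] 1 = true := by decide +kernel
theorem witc19 : witChk 19 121645100408832000 wit19 = true := by decide +kernel
theorem chk19 : chkB (1 :: cert19.map (·.1)) [2, 3, 5, 7, 11, 13, 17, 19] (wit19.map (·.1)) cert19 = true := by
  decide +kernel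
theorem fac19 : Nat.factorial 19 = 121645100408832000 := by decide +kernel

/-- **B10 from A1 and A2**: a finite group with the character degrees of `A_n`, `5 ≤ n < 20`, has a perfect derived
subgroup. -/
theorem small {n : ℕ} (h5 : 5 ≤ n) (hn : n < 20) (a1 : HypOne n) (a2 : HypTwo n) {G : Type u} [Group G] [Finite G]
    (h : charDegrees G = D n) : ⁅commutator G, commutator G⁆ = commutator G := by
  have hP : ∀ p : ℕ, p.Prime → p ≤ n → p ∈ [2, 3, 5, 7, 11, 13, 17, 19] := fun p hp h1 => primes_le hp hn h1
  interval_cases n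
  · exact core' fac5 go5 witc5 chk5 hP a1 a2 h
  · exact core' fac6 go6 witc6 chk6 hP a1 a2 h
  · exact core' fac7 go7 witc7 chk7 hP a1 a2 h
  · exact core' fac8 go8 witc8 chk8 hP a1 a2 h
  · exact core' fac9 go9 witc9 chk9 hP a1 a2 h
  · exact core' fac10 go10 witc10 chk10 hP a1 a2 h
  · exact core' fac11 go11 witc11 chk11 hP a1 a2 h
  · exact core' fac12 go12 witc12 chk12 hP a1 a2 h
  · exact core' fac13 go13 witc13 chk13 hP a1 a2 h
  · exact core' fac14 go14 witc14 chk14 hP a1 a2 h
  · exact core' fac15 go15 witc15 chk15 hP a1 a2 h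
  · exact core' fac16 go16 witc16 chk16 hP a1 a2 h
  · exact core' fac17 go17 witc17 chk17 hP a1 a2 h
  · exact core' fac18 go18 witc18 chk18 hP a1 a2 h
  · exact core' fac19 go19 witc19 chk19 hP a1 a2 h

end Cfsg.Agent.H245.AN
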